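import Groth.Agent.KFlat.Generator
import Groth.Prelude.Def_Koszul
import Mathlib.Algebra.Homology.DerivedCategory.Linear
import Mathlib.Algebra.Category.ModuleCat.Projective
import Mathlib.Algebra.Category.ModuleCat.Abelian
import Mathlib.Algebra.Homology.ShortComplex.ModuleCat
import Mathlib.Algebra.Homology.ShortComplex.Linear
import Mathlib.CategoryTheory.Triangulated.TStructure.TruncLEGT

/-!
# Orthogonality to a Koszul complex in `D(A)`
-/

set_option autoImplicit false

universe u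

open CategoryTheory CategoryTheory.Limits Pretriangulated DerivedCategory
open Groth.Agent.KFlat.TruncHom

attribute [local instance] HasDerivedCategory.standard

namespace Groth.Agent.CohDerLib.Kosz

variable {A : Type u} [CommRing A]

/-- The Koszul complex in `D(A)`. -/
noncomputable abbrev KD (fs : List A) : DerivedCategory (ModuleCat.{u} A) := Q.obj (Koszul.koszul A fs)

/-- every element of each cohomology module is killed by a power of `g` -/
def HTors (g : A) (C : DerivedCategory (ModuleCat.{u} A)) : Prop :=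
  ∀ (m : ℤ) (x : (homologyFunctor (ModuleCat.{u} A) m).obj C), ∃ k : ℕ, g ^ k • x = 0

lemma homology_smul_id (X : DerivedCategory (ModuleCat.{u} A)) (m : ℤ) (r : A) :
    (homologyFunctor (ModuleCat.{u} A) m).map (r • 𝟙 X) = r • 𝟙 _ := by
  let K := Q.objPreimage X
  let e : Q.obj K ≅ X := Q.objObjPreimageIso X
  have hK : (homologyFunctor (ModuleCat.{u} A) m).map (Q.map (r • 𝟙 K)) = r • 𝟙 _ := by
    let ι := (homologyFunctorFactors (ModuleCat.{u} A) m).app K
    have h1 := (homologyFunctorFactors (ModuleCat.{u} A) m).hom.naturality (r • 𝟙 K)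
    have h2 : (HomologicalComplex.homologyFunctor (ModuleCat.{u} A) (ComplexShape.up ℤ) m).map (r • 𝟙 K) =
        r • 𝟙 _ := by
      change ShortComplex.homologyMap
        ((HomologicalComplex.shortComplexFunctor (ModuleCat.{u} A) (ComplexShape.up ℤ) m).map (r • 𝟙 K)) = _
      let S : ShortComplex (ModuleCat.{u} A) := K.sc m
      have hS : ((HomologicalComplex.shortComplexFunctor (ModuleCat.{u} A) (ComplexShape.up ℤ) m).map (r • 𝟙 K) :
          S ⟶ S) = r • 𝟙 S := by ext <;> rfl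
      refine (congrArg (fun φ : S ⟶ S => ShortComplex.homologyMap φ) hS).trans ?_
      rw [ShortComplex.homologyMap_smul, ShortComplex.homologyMap_id]
      rfl
    apply (cancel_mono ι.hom).1
    refine h1.trans ?_
    rw [h2]
    simp [ι]
  have he : r • 𝟙 X = e.inv ≫ Q.map (r • 𝟙 K) ≫ e.hom := by
    rw [Functor.map_smul, CategoryTheory.Functor.map_id]
    simp [e]
  rw [he, Functor.map_comp, Functor.map_comp, hK]
  simp [← Functor.map_comp]

lemma homology_smul {X Y : DerivedCategory (ModuleCat.{u} A)} (φ : X ⟶ Y) (m : ℤ) (r : A) :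
    (homologyFunctor (ModuleCat.{u} A) m).map (r • φ) = r • (homologyFunctor (ModuleCat.{u} A) m).map φ := by
  have : r • φ = (r • 𝟙 X) ≫ φ := by simp
  rw [this, Functor.map_comp, homology_smul_id]
  simp

lemma Φ_surj (m : ℤ) (C : DerivedCategory (ModuleCat.{u} A))
    (x : (homologyFunctor (ModuleCat.{u} A) m).obj C) :
    ∃ φ : (singleFunctor (ModuleCat.{u} A) m).obj (ModuleCat.of A A) ⟶ C,
      (Φ (ModuleCat.of A A) m C φ).hom (1 : A) = x := by
  have : Projective (ModuleCat.of A A) :=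
    (IsProjective.iff_projective (R := A) (P := A)).1 inferInstance
  obtain ⟨φ, hφ⟩ := (Groth.Agent.KFlat.Generator.Φ_bijective_of_projective (ModuleCat.of A A) m C).2
    (ModuleCat.ofHom (LinearMap.toSpanSingleton A _ x))
  refine ⟨φ, ?_⟩
  rw [hφ]
  simp

lemma eq_zero_of_Φ_apply {m : ℤ} {C : DerivedCategory (ModuleCat.{u} A)}
    (φ : (singleFunctor (ModuleCat.{u} A) m).obj (ModuleCat.of A A) ⟶ C)
    (h : (Φ (ModuleCat.of A A) m C φ).hom (1 : A) = 0) : φ = 0 := by
  have : Projective (ModuleCat.of A A) :=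
    (IsProjective.iff_projective (R := A) (P := A)).1 inferInstance
  refine (Groth.Agent.KFlat.Generator.Φ_bijective_of_projective (ModuleCat.of A A) m C).1 ?_
  rw [map_zero]
  exact ModuleCat.hom_ext (LinearMap.ext_ring h)

/-- the empty Koszul complex, shifted -/
noncomputable def nilIso (n : ℤ) :
    (KD ([] : List A))⟦n⟧ ≅ (singleFunctor (ModuleCat.{u} A) (-n)).obj (ModuleCat.of A A) :=
  (shiftFunctor _ n).mapIso
      (((SingleFunctors.evaluation _ _ 0).mapIso (singleFunctorsPostcompQIso (ModuleCat.{u} A))).app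
        (ModuleCat.of A A)).symm ≪≫
    ((DerivedCategory.singleFunctors (ModuleCat.{u} A)).shiftIso n (-n) 0 (by omega)).app (ModuleCat.of A A)

/-- the defining triangle -/
noncomputable abbrev tri (f : A) (l : List A) : Triangle (DerivedCategory (ModuleCat.{u} A)) :=
  Q.mapTriangle.obj (CochainComplex.mappingCone.triangle (f • 𝟙 (Koszul.koszul A l)))

lemma tri_dist (f : A) (l : List A) : tri f l ∈ distinguishedTriangles :=
  mappingCone_triangle_distinguished _

lemma tri_mor₁ (f : A) (l : List A) : (tri f l).mor₁ = f • 𝟙 (KD l) := by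
  change Q.map (f • 𝟙 (Koszul.koszul A l)) = _
  rw [Functor.map_smul, CategoryTheory.Functor.map_id]

/-- the shifted triangle -/
noncomputable abbrev triS (f : A) (l : List A) (n : ℤ) : Triangle (DerivedCategory (ModuleCat.{u} A)) :=
  (Triangle.shiftFunctor _ n).obj (tri f l)

lemma triS_dist (f : A) (l : List A) (n : ℤ) : triS f l n ∈ distinguishedTriangles :=
  Triangle.shift_distinguished _ (tri_dist f l) n

lemma triS_mor₁ (f : A) (l : List A) (n : ℤ) :
    (triS f l n).mor₁ = n.negOnePow • (f • 𝟙 ((KD l)⟦n⟧)) := by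
  change n.negOnePow • (tri f l).mor₁⟦n⟧' = _
  refine congrArg (n.negOnePow • ·) ?_
  exact ((congrArg (fun φ : KD l ⟶ KD l => φ⟦n⟧') (tri_mor₁ f l)).trans (Functor.map_smul _ f _)).trans
    (congrArg (f • ·) (CategoryTheory.Functor.map_id _ _))

/-- second map of the shifted triangle -/
noncomputable def m₂ (f : A) (l : List A) (n : ℤ) : (KD l)⟦n⟧ ⟶ (KD (f :: l))⟦n⟧ := (triS f l n).mor₂

/-- third map of the shifted triangle -/
noncomputable def m₃ (f : A) (l : List A) (n : ℤ) : (KD (f :: l))⟦n⟧ ⟶ (KD l)⟦n + 1⟧ :=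
  (triS f l n).mor₃ ≫ (shiftFunctorAdd' (DerivedCategory (ModuleCat.{u} A)) n 1 (n + 1) rfl).inv.app (KD l)

lemma exists_factor₂ {f : A} {l : List A} {n : ℤ} {C : DerivedCategory (ModuleCat.{u} A)}
    (χ : (KD l)⟦n⟧ ⟶ C) (hχ : f • χ = 0) : ∃ γ, χ = m₂ f l n ≫ γ := by
  have h : (n.negOnePow • (f • 𝟙 ((KD l)⟦n⟧))) ≫ χ = 0 := by
    rw [Linear.units_smul_comp, Linear.smul_comp, Category.id_comp, hχ, smul_zero]
  exact Triangle.yoneda_exact₂ (triS f l n) (triS_dist f l n) χ
    ((congrArg (fun φ : (KD l)⟦n⟧ ⟶ (KD l)⟦n⟧ => φ ≫ χ) (triS_mor₁ f l n)).trans h)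

lemma exists_factor₃ {f : A} {l : List A} {n : ℤ} {C : DerivedCategory (ModuleCat.{u} A)}
    (φ : (KD (f :: l))⟦n⟧ ⟶ C) (hφ : m₂ f l n ≫ φ = 0) : ∃ ψ, φ = m₃ f l n ≫ ψ := by
  obtain ⟨ψ, hψ⟩ := Triangle.yoneda_exact₃ (triS f l n) (triS_dist f l n) φ hφ
  let e := shiftFunctorAdd' (DerivedCategory (ModuleCat.{u} A)) n 1 (n + 1) rfl
  refine ⟨e.hom.app (KD l) ≫ ψ, hψ.trans ?_⟩
  have h : e.inv.app (KD l) ≫ e.hom.app (KD l) ≫ ψ = ψ := e.inv_hom_id_app_assoc (KD l) ψ
  exact (congrArg ((triS f l n).mor₃ ≫ ·) h).symm.trans (Category.assoc (triS f l n).mor₃ _ _).symm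

lemma hTors_step (f : A) (l : List A) (g : A) (h : HTors g (KD l) ∨ g = f) : HTors g (KD (f :: l)) := by
  intro m x
  let T := tri f l
  have hT : T ∈ distinguishedTriangles := tri_dist f l
  let α : (homologyFunctor (ModuleCat.{u} A) m).obj (KD l) ⟶
      (homologyFunctor (ModuleCat.{u} A) m).obj (KD (f :: l)) := (homologyFunctor _ m).map T.mor₂
  let δ : (homologyFunctor (ModuleCat.{u} A) m).obj (KD (f :: l)) ⟶
      (homologyFunctor (ModuleCat.{u} A) (m + 1)).obj (KD l) := HomologySequence.δ T m (m + 1) rfl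
  have hex : ∀ y, δ.hom y = 0 → ∃ z, α.hom z = y := fun y hy =>
    (ShortComplex.moduleCat_exact_iff _).1 (HomologySequence.exact₃ T hT m (m + 1) rfl) y hy
  have hm : ∀ i, (homologyFunctor (ModuleCat.{u} A) i).map T.mor₁ =
      f • 𝟙 ((homologyFunctor (ModuleCat.{u} A) i).obj (KD l)) := fun i =>
    (congrArg (fun φ : KD l ⟶ KD l => (homologyFunctor (ModuleCat.{u} A) i).map φ) (tri_mor₁ f l)).trans
      (homology_smul_id _ i f)
  rcases h with h | rfl
  · obtain ⟨k, hk⟩ := h (m + 1) (δ.hom x)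
    obtain ⟨z, hz⟩ := hex (g ^ k • x) (by rw [map_smul, hk])
    obtain ⟨j, hj⟩ := h m z
    exact ⟨j + k, by rw [pow_add, mul_smul, ← hz, ← map_smul, hj, map_zero]⟩
  · have h1 : δ ≫ (g • 𝟙 _) = 0 :=
      (congrArg (δ ≫ ·) (hm (m + 1)).symm).trans (HomologySequence.δ_comp T hT m (m + 1) rfl)
    have h2 : (g • 𝟙 _) ≫ α = 0 := by
      refine (congrArg (· ≫ α) (hm m).symm).trans ?_
      exact ((homologyFunctor (ModuleCat.{u} A) m).map_comp T.mor₁ T.mor₂).symm.trans
        ((congrArg _ (comp_distTriang_mor_zero₁₂ T hT)).trans (Functor.map_zero _ _ _))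
    obtain ⟨z, hz⟩ := hex (g • x) (by
      rw [map_smul]; exact congrArg (fun φ => φ.hom x) h1)
    refine ⟨2, ?_⟩
    rw [pow_two, mul_smul, ← hz, ← map_smul]
    exact congrArg (fun φ => φ.hom z) h2

lemma hTors_koszul (fs : List A) (g : A) (hg : g ∈ fs) : HTors g (KD fs) := by
  induction fs with
  | nil => simp at hg
  | cons f l ih =>
    rcases List.mem_cons.1 hg with rfl | hg
    · exact hTors_step _ l _ (Or.inr rfl)
    · exact hTors_step f l g (Or.inl (ih hg))

lemma isLE_koszul (fs : List A) : (KD fs).IsLE 0 := by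
  induction fs with
  | nil =>
    have : ((singleFunctor (ModuleCat.{u} A) (0 : ℤ)).obj (ModuleCat.of A A)).IsLE 0 := inferInstance
    exact @Triangulated.TStructure.isLE_of_iso _ _ _ _ _ _ _ TStructure.t _ _
      (((SingleFunctors.evaluation _ _ 0).mapIso (singleFunctorsPostcompQIso (ModuleCat.{u} A))).app
        (ModuleCat.of A A)) 0 ‹_›
  | cons f l ih =>
    rw [isLE_iff]
    intro i hi
    exact (HomologySequence.exact₃ (tri f l) (tri_dist f l) i (i + 1) rfl).isZero_of_both_zeros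
      ((isZero_of_isLE (KD l) 0 i hi).eq_of_src _ _)
      ((isZero_of_isLE (KD l) 0 (i + 1) (by omega)).eq_of_tgt _ _)

/-- high maps into an object bounded above vanish -/
lemma hom_eq_zero_of_isLE (fs : List A) (Y : DerivedCategory (ModuleCat.{u} A)) (b : ℤ) [Y.IsLE b] (n : ℤ)
    (hn : b + (fs.length : ℤ) < -n) (φ : (KD fs)⟦n⟧ ⟶ Y) : φ = 0 := by
  induction fs generalizing n with
  | nil =>
    refine (cancel_epi (nilIso n).inv).1 ?_
    rw [comp_zero]
    refine eq_zero_of_Φ_apply _ ?_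
    have : Subsingleton ((homologyFunctor (ModuleCat.{u} A) (-n)).obj Y) :=
      ModuleCat.subsingleton_of_isZero (isZero_of_isLE Y b (-n) (by simpa using hn))
    exact Subsingleton.elim _ _
  | cons f l ih =>
    simp only [List.length_cons, Nat.cast_succ] at hn
    obtain ⟨ψ, hψ⟩ := exists_factor₃ φ (ih n (by omega) _)
    rw [hψ, ih (n + 1) (by omega) ψ, comp_zero]

/-- maps into torsion objects are torsion -/
lemma hom_tors (fs : List A) (C : DerivedCategory (ModuleCat.{u} A)) (g : A) (hC : HTors g C) (n : ℤ)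
    (φ : (KD fs)⟦n⟧ ⟶ C) : ∃ k : ℕ, g ^ k • φ = 0 := by
  induction fs generalizing n with
  | nil =>
    obtain ⟨k, hk⟩ := hC (-n) ((Φ (ModuleCat.of A A) (-n) C ((nilIso n).inv ≫ φ)).hom (1 : A))
    refine ⟨k, (cancel_epi (nilIso n).inv).1 ?_⟩
    rw [comp_zero]
    refine eq_zero_of_Φ_apply _ ?_
    rw [Linear.comp_smul, Φ_apply, homology_smul, Linear.comp_smul]
    exact hk
  | cons f l ih =>
    obtain ⟨k, hk⟩ := ih n (m₂ f l n ≫ φ)
    obtain ⟨ψ, hψ⟩ := exists_factor₃ (g ^ k • φ) (by rw [Linear.comp_smul]; exact hk)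
    obtain ⟨j, hj⟩ := ih (n + 1) ψ
    refine ⟨j + k, ?_⟩
    rw [pow_add, mul_smul, hψ, ← Linear.comp_smul, hj, comp_zero]

/-- vanishing descends along the list -/
lemma hom_nil_eq_zero (fs : List A) (C : DerivedCategory (ModuleCat.{u} A)) (hC : ∀ g ∈ fs, HTors g C)
    (n : ℤ) (h : ∀ φ : (KD fs)⟦n⟧ ⟶ C, φ = 0) (φ : (KD ([] : List A))⟦n⟧ ⟶ C) : φ = 0 := by
  induction fs with
  | nil => exact h φ
  | cons f l ih =>
    refine ih (fun g hg => hC g (List.mem_cons_of_mem _ hg)) fun ψ => ?_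
    obtain ⟨k, hk⟩ := hom_tors l C f (hC f List.mem_cons_self) n ψ
    have key : ∀ χ : (KD l)⟦n⟧ ⟶ C, f • χ = 0 → χ = 0 := fun χ hχ => by
      obtain ⟨γ, hγ⟩ := exists_factor₂ χ hχ
      rw [hγ, h γ, comp_zero]
    induction k with
    | zero => simpa using hk
    | succ k ihk => exact ihk (key _ (by rw [smul_smul, ← pow_succ']; exact hk))

lemma isZero_homology_of_hom (fs : List A) (C : DerivedCategory (ModuleCat.{u} A)) (hC : ∀ g ∈ fs, HTors g C)
    (n : ℤ) (h : ∀ φ : (KD fs)⟦n⟧ ⟶ C, φ = 0) :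
    IsZero ((homologyFunctor (ModuleCat.{u} A) (-n)).obj C) := by
  refine @ModuleCat.isZero_of_subsingleton A _ _ ⟨fun x y => ?_⟩
  have hz : ∀ x : (homologyFunctor (ModuleCat.{u} A) (-n)).obj C, x = 0 := fun x => by
    obtain ⟨φ, rfl⟩ := Φ_surj (-n) C x
    have : φ = 0 := by
      refine (cancel_epi (nilIso n).hom).1 ?_
      rw [comp_zero]
      exact hom_nil_eq_zero fs C hC n h _
    rw [this, map_zero]
    rfl
  rw [hz x, hz y]

end Groth.Agent.CohDerLib.Kosz
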