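import Groth.Agent.CohDerLib.Kosz.Orth
import Groth.Agent.CohDerLib.QC.PushQCoh
import Groth.Agent.KFlat.TildeD
import Groth.Agent.KFlat.RPushBase
import Groth.Agent.FormalFun.Near
import Groth.Agent.QCoh.Basic
import Groth.Prelude.Def_DCoh3
import Groth.Prelude.Def_Koszul
import Groth.Prelude.Def_Wider

/-!
# The unit of restriction to the complement of `V(f₁,…,f_r)` and Koszul orthogonality
-/

set_option autoImplicit false
set_option backward.isDefEq.respectTransparency.types false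

universe u

open CategoryTheory CategoryTheory.Limits AlgebraicGeometry DerivedCategory Pretriangulated TopologicalSpace
open Groth.Agent.KFlat Groth.Agent.KFlat.RPush Groth.Agent.KFlat.WeakKInj

attribute [local instance] HasDerivedCategory.standard

namespace Groth.Agent.CohDerLib.Kosz

section Restr

variable {X : Scheme.{u}} (U : X.Opens) [PreservesFiniteLimits (Scheme.Modules.restrictFunctor U.ι)]

/-- cohomology commutes with restriction -/
noncomputable def homologyRestrictIso (K : DCoh.D X) (i : ℤ) :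
    DCoh.HD ((DCoh.restrictD U.ι).obj K) i ≅ (Scheme.Modules.restrictFunctor U.ι).obj (DCoh.HD K i) :=
  (MapHomology.iso (Scheme.Modules.restrictFunctor U.ι) i).app K

theorem isQCohD_restrictD {K : DCoh.D X} (hK : DCoh.IsQCohD K) :
    DCoh.IsQCohD ((DCoh.restrictD U.ι).obj K) := fun i =>
  CohDerLib.QC.qcoh_iso (homologyRestrictIso U K i).symm
    (@Scheme.Modules.isQuasicoherent_restrictFunctor _ _ U.ι _ _ (hK i))

variable [DCoh.HasRpush U.ι]

/-- restricting the derived direct image, on complexes -/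
noncomputable def restrictRpushSelfQ :
    DerivedCategory.Q ⋙ (DCoh.Rpush U.ι ⋙ DCoh.restrictD U.ι) ≅
      (DerivedCategory.Q : CochainComplex (U : Scheme.{u}).Modules ℤ ⥤ _) :=
  (Functor.associator _ _ _).symm ≪≫ Functor.isoWhiskerRight (rpushIso U.ι) _ ≪≫
    Functor.associator _ _ _ ≪≫
    Functor.isoWhiskerLeft (injRes (U : Scheme.{u}))
      (Functor.associator _ _ _ ≪≫
        Functor.isoWhiskerLeft (pushCx U.ι) (RPushBase.restrictDIso U) ≪≫ (Functor.associator _ _ _).symm ≪≫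
        Functor.isoWhiskerRight (RPushBase.mapCxComp _ _ _ ≪≫
          NatIso.mapHomologicalComplex (Scheme.Modules.restrictFunctorAdjCounitIso U.ι) _ ≪≫
          Functor.mapHomologicalComplexIdIso _ _) _ ≪≫ Functor.leftUnitor _) ≪≫
    injQIso

/-- restricting the derived direct image gives the identity -/
noncomputable def restrictRpushSelf : DCoh.Rpush U.ι ⋙ DCoh.restrictD U.ι ≅ 𝟭 (DCoh.D (U : Scheme.{u})) :=
  Localization.liftNatIso DerivedCategory.Q (HomologicalComplex.quasiIso (U : Scheme.{u}).Modules (ComplexShape.up ℤ))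
    (DerivedCategory.Q ⋙ (DCoh.Rpush U.ι ⋙ DCoh.restrictD U.ι)) DerivedCategory.Q
    (DCoh.Rpush U.ι ⋙ DCoh.restrictD U.ι) (𝟭 _) (restrictRpushSelfQ U)

variable (adj : DCoh.restrictD U.ι ⊣ DCoh.Rpush U.ι)

theorem isIso_restrict_unit (E : DCoh.D X) : IsIso ((DCoh.restrictD U.ι).map (adj.unit.app E)) := by
  have := adj.isIso_counit_of_iso (restrictRpushSelf U)
  have : IsIso ((DCoh.restrictD U.ι).map (adj.unit.app E) ≫ adj.counit.app ((DCoh.restrictD U.ι).obj E)) := by
    have h := adj.left_triangle_components E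
    exact h.symm ▸ (inferInstance : IsIso (𝟙 ((DCoh.restrictD U.ι).obj E)))
  exact IsIso.of_isIso_comp_right _ (adj.counit.app ((DCoh.restrictD U.ι).obj E))

end Restr

variable {A : Type u} [CommRing A] (fs : List A)

/-- the open complement of `V(fs)` -/
noncomputable abbrev U : (Spec (CommRingCat.of A)).Opens := LocCoh.puncturedOpen A (Ideal.span {a | a ∈ fs})

lemma U_eq : U fs = ⨆ i : {a : A // a ∈ fs},
    (PrimeSpectrum.basicOpen i.1 : (Spec (CommRingCat.of A)).Opens) := by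
  apply Opens.ext
  refine (congrArg (·ᶜ) (PrimeSpectrum.zeroLocus_span {a | a ∈ fs})).trans ?_
  ext p
  simp only [Set.mem_compl_iff, PrimeSpectrum.mem_zeroLocus, Set.not_subset]
  exact Iff.trans ⟨fun ⟨a, ha, hp⟩ => ⟨⟨a, ha⟩, hp⟩, fun ⟨i, hp⟩ => ⟨i.1, i.2, hp⟩⟩
    (Opens.mem_iSup.trans (exists_congr fun i : {a : A // a ∈ fs} => PrimeSpectrum.mem_basicOpen i.1 p)).symm

lemma basicOpen_le_U {g : A} (hg : g ∈ fs) :
    (PrimeSpectrum.basicOpen g : (Spec (CommRingCat.of A)).Opens) ≤ U fs := by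
  rw [U_eq]
  exact le_iSup (fun i : {a : A // a ∈ fs} => (PrimeSpectrum.basicOpen i.1 : (Spec (CommRingCat.of A)).Opens)) ⟨g, hg⟩

lemma exists_not_mem {p : PrimeSpectrum A} (hp : p ∈ U fs) : ∃ g ∈ fs, g ∉ p.asIdeal := by
  rw [U_eq] at hp
  obtain ⟨⟨g, hg⟩, h⟩ := Opens.mem_iSup.1 hp
  exact ⟨g, hg, h⟩

instance quasiCompact_U : QuasiCompact (U fs).ι := by
  have hc : IsCompact ((U fs : (Spec (CommRingCat.of A)).Opens) : Set (Spec (CommRingCat.of A))) := by
    have hU : ((U fs : (Spec (CommRingCat.of A)).Opens) : Set (Spec (CommRingCat.of A))) =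
        ⋃ i : {a : A // a ∈ fs}, (PrimeSpectrum.basicOpen i.1).carrier := by
      rw [U_eq]; exact Opens.coe_iSup _
    rw [hU]
    have : Finite {a : A // a ∈ fs} := (List.finite_toSet fs).to_subtype
    exact isCompact_iUnion fun i => PrimeSpectrum.isCompact_basicOpen _
  exact (quasiCompact_iff_compactSpace _).2 (isCompact_iff_compactSpace.1 hc)

theorem exists_pow_smul_eq_zero {R : CommRingCat.{u}} (M : ModuleCat.{u} R) (g : R) (x : M)
    (h : Subsingleton Γ(tilde M, PrimeSpectrum.basicOpen g)) : ∃ k : ℕ, g ^ k • x = 0 := by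
  have : IsLocalizedModule (Submonoid.powers g) (tilde.toOpen M (PrimeSpectrum.basicOpen g)).hom := inferInstance
  have h0 : (tilde.toOpen M (PrimeSpectrum.basicOpen g)).hom x = 0 := @Subsingleton.elim _ h _ _
  obtain ⟨⟨_, k, rfl⟩, hk⟩ := (IsLocalizedModule.eq_zero_iff (Submonoid.powers g)
    (tilde.toOpen M (PrimeSpectrum.basicOpen g)).hom).1 h0
  exact ⟨k, hk⟩

theorem subsingleton_stalk {R : CommRingCat.{u}} (M : ModuleCat.{u} R) (g : R)
    (h : ∀ x : M, ∃ k : ℕ, g ^ k • x = 0) (p : PrimeSpectrum.Top R) (hgp : g ∉ p.asIdeal) :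
    Subsingleton ((tilde M).presheaf.stalk p) := by
  refine subsingleton_of_forall_eq 0 fun t => ?_
  have : IsLocalizedModule p.asIdeal.primeCompl (tilde.toStalk (R := R) M p).hom := inferInstance
  obtain ⟨⟨x, s⟩, hx⟩ := IsLocalizedModule.surj p.asIdeal.primeCompl (tilde.toStalk (R := R) M p).hom t
  obtain ⟨k, hk⟩ := h x
  have h1 := IsLocalizedModule.map_units (S := p.asIdeal.primeCompl) (tilde.toStalk (R := R) M p).hom
      ⟨_, p.asIdeal.primeCompl.mul_mem (p.asIdeal.primeCompl.pow_mem hgp k) s.2⟩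
  refine ((Module.End.isUnit_iff _).1 h1).1 ?_
  simp only [Module.algebraMap_end_apply, smul_zero]
  rw [mul_smul]
  refine (congrArg (g ^ k • ·) hx).trans ?_
  exact ((tilde.toStalk (R := R) M p).hom.map_smul (g ^ k) x).symm.trans
    ((congrArg _ hk).trans (map_zero _))

theorem tors_of_isZero_restrict {M : ModuleCat.{u} (CommRingCat.of A)}
    (h : IsZero ((Scheme.Modules.restrictFunctor (U fs).ι).obj ((tilde.functor (CommRingCat.of A)).obj M)))
    {g : CommRingCat.of A} (hg : g ∈ fs) (x : M) : ∃ k : ℕ, g ^ k • x = 0 := by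
  let W : (Spec (CommRingCat.of A)).Opens := PrimeSpectrum.basicOpen g
  have hW : (U fs).ι ''ᵁ ((U fs).ι ⁻¹ᵁ W) = W := by
    rw [Scheme.Hom.image_preimage_eq_opensRange_inf, Scheme.Opens.opensRange_ι]
    exact inf_eq_right.2 (basicOpen_le_U fs hg)
  have hs : Subsingleton Γ((tilde (R := CommRingCat.of A) M).restrict (U fs).ι, (U fs).ι ⁻¹ᵁ W) :=
    AddCommGrpCat.subsingleton_of_isZero
      ((QCoh.sectionsFunctor (U fs : Scheme.{u}) ((U fs).ι ⁻¹ᵁ W)).map_isZero h)
  refine exists_pow_smul_eq_zero M g x ?_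
  have hs' : Subsingleton Γ(tilde (R := CommRingCat.of A) M, W) := hW ▸ hs
  exact hs'

theorem isZero_restrict_of_tors {M : ModuleCat.{u} (CommRingCat.of A)}
    (h : ∀ (g : CommRingCat.of A), g ∈ fs → ∀ x : M, ∃ k : ℕ, g ^ k • x = 0) :
    IsZero ((Scheme.Modules.restrictFunctor (U fs).ι).obj ((tilde.functor (CommRingCat.of A)).obj M)) := by
  refine FormalFun.isZero_restrict_of_stalks (tilde (R := CommRingCat.of A) M) fun p hp => ?_
  obtain ⟨g, hg, hgp⟩ := exists_not_mem fs hp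
  exact subsingleton_stalk M g (h g hg) p hgp

section Tilde

variable {R : CommRingCat.{u}} [PreservesFiniteLimits (tilde.functor R)]

/-- cohomology commutes with tilde -/
noncomputable def homologyTildeIso (M : DerivedCategory (ModuleCat.{u} R)) (i : ℤ) :
    DCoh.HD ((DCoh.tildeD R).obj M) i ≅
      (tilde.functor R).obj ((DerivedCategory.homologyFunctor (ModuleCat.{u} R) i).obj M) :=
  (MapHomology.iso (tilde.functor R) i).app M

theorem tildeD_hom_iff {E : DCoh.D (Spec R)} {M : DerivedCategory (ModuleCat.{u} R)}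
    (e : (DCoh.tildeD R).obj M ≅ E) (P : DerivedCategory (ModuleCat.{u} R)) (n : ℤ) :
    (∀ φ : ((DCoh.tildeD R).obj P)⟦n⟧ ⟶ E, φ = 0) ↔ ∀ φ : P⟦n⟧ ⟶ M, φ = 0 := by
  let c : (DCoh.tildeD R).obj (P⟦n⟧) ≅ ((DCoh.tildeD R).obj P)⟦n⟧ := ((DCoh.tildeD R).commShiftIso n).app P
  constructor
  · intro h φ
    refine (DCoh.tildeD R).map_injective (Eq.trans ?_ (Functor.map_zero _ _ _).symm)
    refine (cancel_epi c.inv).1 ((cancel_mono e.hom).1 ?_)
    rw [comp_zero, zero_comp]
    exact h _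
  · intro h φ
    obtain ⟨ψ, hψ⟩ := (DCoh.tildeD R).map_surjective (c.hom ≫ φ ≫ e.inv)
    rw [h ψ, Functor.map_zero] at hψ
    refine (cancel_mono e.inv).1 ((cancel_epi c.hom).1 ?_)
    rw [zero_comp, comp_zero]
    exact hψ.symm

theorem isIso_homology_tilde_iff {M N : DerivedCategory (ModuleCat.{u} R)} {E E' : DCoh.D (Spec R)}
    (eM : (DCoh.tildeD R).obj M ≅ E) (eN : (DCoh.tildeD R).obj N ≅ E') (η : E ⟶ E') (u : M ⟶ N)
    (hu : (DCoh.tildeD R).map u = eM.hom ≫ η ≫ eN.inv) (i : ℤ) :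
    IsIso ((DerivedCategory.homologyFunctor (Spec R).Modules i).map η) ↔
      IsIso ((DerivedCategory.homologyFunctor (ModuleCat.{u} R) i).map u) := by
  let H := DerivedCategory.homologyFunctor (Spec R).Modules i
  let T := tilde.functor R
  let b := (DerivedCategory.homologyFunctor (ModuleCat.{u} R) i).map u
  let eM' := homologyTildeIso M i
  let eN' := homologyTildeIso N i
  have hnat : H.map ((DCoh.tildeD R).map u) ≫ eN'.hom = eM'.hom ≫ T.map b :=
    (MapHomology.iso (tilde.functor R) i).hom.naturality u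
  have key : T.map b = eM'.inv ≫ H.map eM.hom ≫ H.map η ≫ H.map eN.inv ≫ eN'.hom := by
    rw [(Iso.eq_inv_comp eM').2 hnat.symm, hu, Functor.map_comp, Functor.map_comp, Category.assoc,
      Category.assoc]
  constructor
  · intro h
    have : IsIso (T.map b) := by rw [key]; infer_instance
    exact isIso_of_fully_faithful T b
  · intro h
    have hη : H.map η = H.map eM.inv ≫ eM'.hom ≫ T.map b ≫ eN'.inv ≫ H.map eN.hom := by
      rw [key]
      simp [← Functor.map_comp]
    exact hη ▸ inferInstance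

end Tilde

variable [PreservesFiniteLimits (tilde.functor (CommRingCat.of A))]
  [PreservesFiniteLimits (Scheme.Modules.restrictFunctor (U fs).ι)]

/-- cohomology of tilde, restricted -/
noncomputable def homologyRestrictTildeIso (M : DerivedCategory (ModuleCat.{u} A)) (i : ℤ) :
    DCoh.HD ((DCoh.restrictD (U fs).ι).obj ((DCoh.tildeD (CommRingCat.of A)).obj M)) i ≅
      (Scheme.Modules.restrictFunctor (U fs).ι).obj
        ((tilde.functor (CommRingCat.of A)).obj ((homologyFunctor (ModuleCat.{u} A) i).obj M)) :=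
  homologyRestrictIso (U fs) _ i ≪≫
    (Scheme.Modules.restrictFunctor (U fs).ι).mapIso (homologyTildeIso (R := CommRingCat.of A) M i)

theorem isZero_restrictD_KD :
    IsZero ((DCoh.restrictD (U fs).ι).obj ((DCoh.tildeD (CommRingCat.of A)).obj (KD fs))) := by
  let Z := (DCoh.restrictD (U fs).ι).obj ((DCoh.tildeD (CommRingCat.of A)).obj (KD fs))
  have hz : ∀ i, IsZero ((homologyFunctor _ i).obj Z) := fun i =>
    (isZero_restrict_of_tors fs fun g hg x => hTors_koszul fs g hg i x).of_iso (homologyRestrictTildeIso fs _ i)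
  have : IsIso (0 : Z ⟶ Z) := by
    rw [DerivedCategory.isIso_iff]
    exact fun i => isIso_of_isInitial (hz i).isInitial (hz i).isInitial _
  rw [IsZero.iff_id_eq_zero]
  exact (cancel_epi (0 : Z ⟶ Z)).1 (by simp)

theorem hTors_of_isZero_restrictD {C : DerivedCategory (ModuleCat.{u} A)}
    (h : IsZero ((DCoh.restrictD (U fs).ι).obj ((DCoh.tildeD (CommRingCat.of A)).obj C))) {g : A} (hg : g ∈ fs) :
    HTors g C := fun i x =>
  tors_of_isZero_restrict fs
    (((homologyFunctor _ i).map_isZero h).of_iso (homologyRestrictTildeIso fs C i).symm) hg x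

variable [DCoh.HasRpush (U fs).ι] (adj : DCoh.restrictD (U fs).ι ⊣ DCoh.Rpush (U fs).ι)

include adj in
theorem hom_to_Rpush_eq_zero (n : ℤ) (Y : DCoh.D (U fs : Scheme.{u}))
    (φ : ((DCoh.tildeD (CommRingCat.of A)).obj (KD fs))⟦n⟧ ⟶ (DCoh.Rpush (U fs).ι).obj Y) : φ = 0 := by
  have hz : IsZero ((DCoh.restrictD (U fs).ι).obj (((DCoh.tildeD (CommRingCat.of A)).obj (KD fs))⟦n⟧)) :=
    (Functor.map_isZero _ (isZero_restrictD_KD fs)).of_iso (((DCoh.restrictD (U fs).ι).commShiftIso n).app _)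
  refine (adj.homEquiv _ _).symm.injective ?_
  exact hz.eq_of_src _ _

/-- the algebraic model of the unit -/
theorem exists_model (E : DCoh.D (Spec (CommRingCat.of A))) (hE : DCoh.IsQCohD E) :
    ∃ (T : Triangle (DerivedCategory (ModuleCat.{u} A))), T ∈ distinguishedTriangles ∧
      (∀ (n : ℤ) (φ : (KD fs)⟦n⟧ ⟶ T.obj₃), φ = 0) ∧ (∀ g ∈ fs, HTors g T.obj₁) ∧
      (∀ n : ℤ, (∀ φ : ((DCoh.tildeD (CommRingCat.of A)).obj (KD fs))⟦n⟧ ⟶ E, φ = 0) ↔
        ∀ φ : (KD fs)⟦n⟧ ⟶ T.obj₂, φ = 0) ∧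
      ∀ i : ℤ, IsIso ((homologyFunctor _ i).map (adj.unit.app E)) ↔
        IsIso ((homologyFunctor (ModuleCat.{u} A) i).map T.mor₂) := by
  obtain ⟨M, ⟨eM⟩⟩ := TildeD.exists_iso_of_isQCohD (R := CommRingCat.of A) E hE
  obtain ⟨N, ⟨eN⟩⟩ := TildeD.exists_iso_of_isQCohD (R := CommRingCat.of A) ((DCoh.Rpush (U fs).ι).obj ((DCoh.restrictD (U fs).ι).obj E))
    (CohDerLib.QC.isQCohD_Rpush (U fs).ι _ (isQCohD_restrictD (U fs) hE))
  have : (DCoh.tildeD (CommRingCat.of A)).Full := (TildeD.full_faithful (R := CommRingCat.of A)).1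
  have : (DCoh.tildeD (CommRingCat.of A)).Faithful := (TildeD.full_faithful (R := CommRingCat.of A)).2
  obtain ⟨u, hu⟩ : ∃ u : M ⟶ N, (DCoh.tildeD (CommRingCat.of A)).map u = eM.hom ≫ adj.unit.app E ≫ eN.inv :=
    (DCoh.tildeD (CommRingCat.of A)).map_surjective _
  obtain ⟨C, i₁, h₁, hT⟩ := distinguished_cocone_triangle₁ u
  refine ⟨Triangle.mk i₁ u h₁, hT, fun n φ => ?_, fun g hg => ?_,
    fun n => tildeD_hom_iff (R := CommRingCat.of A) eM (KD fs) n,
    fun i => isIso_homology_tilde_iff (R := CommRingCat.of A) eM eN (adj.unit.app E) u hu i⟩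
  · exact (tildeD_hom_iff (R := CommRingCat.of A) eN (KD fs) n).1 (hom_to_Rpush_eq_zero fs adj n _) φ
  · refine hTors_of_isZero_restrictD fs ?_ hg
    refine (Triangle.isZero₁_iff_isIso₂ _ ((DCoh.restrictD (U fs).ι).map_distinguished _
      ((DCoh.tildeD (CommRingCat.of A)).map_distinguished _ hT))).2 ?_
    have := isIso_restrict_unit (U fs) adj E
    change IsIso ((DCoh.restrictD (U fs).ι).map ((DCoh.tildeD (CommRingCat.of A)).map u))
    rw [hu, Functor.map_comp, Functor.map_comp]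
    infer_instance

end Groth.Agent.CohDerLib.Kosz
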