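import Groth.Agent.CohDerLib.Kosz.DerivedA

/-!
# Truncations of maps and Koszul orthogonality
-/

set_option autoImplicit false

universe w v u

open CategoryTheory CategoryTheory.Limits Pretriangulated DerivedCategory
open Groth.Agent.KFlat.TruncHom

namespace Groth.Agent.CohDerLib.Kosz

section Trunc

variable {C : Type u} [Category.{v} C] [Abelian C] [HasDerivedCategory.{w} C] {X Y : DerivedCategory C} (φ : X ⟶ Y)

theorem isIso_truncLT_map_iff (b : ℤ) :
    IsIso ((TStructure.t.truncLT b).map φ) ↔ ∀ i < b, IsIso ((homologyFunctor C i).map φ) := by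
  have hsq : ∀ i, (homologyFunctor C i).map ((TStructure.t.truncLT b).map φ) ≫
      (homologyFunctor C i).map ((TStructure.t.truncLTι b).app Y) =
      (homologyFunctor C i).map ((TStructure.t.truncLTι b).app X) ≫ (homologyFunctor C i).map φ := fun i => by
    rw [← Functor.map_comp, ← Functor.map_comp]
    exact congrArg _ ((TStructure.t.truncLTι b).naturality φ)
  constructor
  · intro h i hi
    have := isIso_H_truncLTι X b i hi
    have := isIso_H_truncLTι Y b i hi
    have : IsIso ((homologyFunctor C i).map ((TStructure.t.truncLTι b).app X) ≫ (homologyFunctor C i).map φ) :=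
      hsq i ▸ inferInstance
    exact IsIso.of_isIso_comp_left ((homologyFunctor C i).map ((TStructure.t.truncLTι b).app X)) _
  · intro h
    rw [DerivedCategory.isIso_iff]
    intro i
    by_cases hi : i < b
    · have := isIso_H_truncLTι X b i hi
      have := isIso_H_truncLTι Y b i hi
      have := h i hi
      have : IsIso ((homologyFunctor C i).map ((TStructure.t.truncLT b).map φ) ≫
          (homologyFunctor C i).map ((TStructure.t.truncLTι b).app Y)) := (hsq i).symm ▸ inferInstance
      exact IsIso.of_isIso_comp_right _ ((homologyFunctor C i).map ((TStructure.t.truncLTι b).app Y))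
    · have hz : ∀ Z : DerivedCategory C, IsZero ((homologyFunctor C i).obj ((TStructure.t.truncLT b).obj Z)) :=
        fun Z => by
          have : ((TStructure.t.truncLT b).obj Z).IsLE (b - 1) :=
            inferInstanceAs (TStructure.t.IsLE ((TStructure.t.truncLT b).obj Z) (b - 1))
          exact isZero_of_isLE _ (b - 1) i (by omega)
      exact isIso_of_isInitial (hz X).isInitial (hz Y).isInitial _

theorem isIso_truncGE_map_iff (b : ℤ) :
    IsIso ((TStructure.t.truncGE b).map φ) ↔ ∀ i, b ≤ i → IsIso ((homologyFunctor C i).map φ) := by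
  have hsq : ∀ i, (homologyFunctor C i).map φ ≫ (homologyFunctor C i).map ((TStructure.t.truncGEπ b).app Y) =
      (homologyFunctor C i).map ((TStructure.t.truncGEπ b).app X) ≫
        (homologyFunctor C i).map ((TStructure.t.truncGE b).map φ) := fun i => by
    rw [← Functor.map_comp, ← Functor.map_comp]
    exact congrArg _ ((TStructure.t.truncGEπ b).naturality φ)
  constructor
  · intro h i hi
    have := isIso_H_truncGEπ X b i hi
    have := isIso_H_truncGEπ Y b i hi
    have : IsIso ((homologyFunctor C i).map φ ≫ (homologyFunctor C i).map ((TStructure.t.truncGEπ b).app Y)) :=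
      (hsq i).symm ▸ inferInstance
    exact IsIso.of_isIso_comp_right _ ((homologyFunctor C i).map ((TStructure.t.truncGEπ b).app Y))
  · intro h
    rw [DerivedCategory.isIso_iff]
    intro i
    by_cases hi : b ≤ i
    · have := isIso_H_truncGEπ X b i hi
      have := isIso_H_truncGEπ Y b i hi
      have := h i hi
      have : IsIso ((homologyFunctor C i).map ((TStructure.t.truncGEπ b).app X) ≫
          (homologyFunctor C i).map ((TStructure.t.truncGE b).map φ)) := hsq i ▸ inferInstance
      exact IsIso.of_isIso_comp_left ((homologyFunctor C i).map ((TStructure.t.truncGEπ b).app X)) _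
    · have hz : ∀ Z : DerivedCategory C, IsZero ((homologyFunctor C i).obj ((TStructure.t.truncGE b).obj Z)) :=
        fun Z => by
          have : ((TStructure.t.truncGE b).obj Z).IsGE b :=
            inferInstanceAs (TStructure.t.IsGE ((TStructure.t.truncGE b).obj Z) b)
          exact isZero_of_isGE _ b i (by omega)
      exact isIso_of_isInitial (hz X).isInitial (hz Y).isInitial _

end Trunc

end Groth.Agent.CohDerLib.Kosz

attribute [local instance] HasDerivedCategory.standard

namespace Groth.Agent.CohDerLib.Kosz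

universe u₀
variable {A : Type u₀} [CommRing A] (fs : List A) (T : Triangle (DerivedCategory (ModuleCat.{u₀} A)))
  (hT : T ∈ distinguishedTriangles) (hN : ∀ (n : ℤ) (φ : (KD fs)⟦n⟧ ⟶ T.obj₃), φ = 0)
  (hC : ∀ g ∈ fs, HTors g T.obj₁)

include hT hN in
theorem mor₁_injective (n : ℤ) (φ : (KD fs)⟦n⟧ ⟶ T.obj₁) (h : φ ≫ T.mor₁ = 0) : φ = 0 := by
  obtain ⟨g, hg⟩ := Triangle.coyoneda_exact₁ T hT (φ⟦(1 : ℤ)⟧') (by rw [← Functor.map_comp, h, Functor.map_zero])
  have hg0 : g = 0 := by
    refine (cancel_epi ((shiftFunctorAdd' (DerivedCategory (ModuleCat.{u₀} A)) n 1 (n + 1) rfl).hom.app (KD fs))).1 ?_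
    rw [comp_zero]
    exact hN (n + 1) _
  rw [hg0, zero_comp] at hg
  exact (shiftFunctor _ (1 : ℤ)).map_injective (hg.trans (Functor.map_zero _ _ _).symm)

include hT in
theorem isIso_homology_mor₂ (i : ℤ) (h₁ : IsZero ((homologyFunctor (ModuleCat.{u₀} A) i).obj T.obj₁))
    (h₂ : IsZero ((homologyFunctor (ModuleCat.{u₀} A) (i + 1)).obj T.obj₁)) :
    IsIso ((homologyFunctor (ModuleCat.{u₀} A) i).map T.mor₂) := by
  have := (HomologySequence.mono_homologyMap_mor₂_iff T hT i).2 (h₁.eq_of_src _ _)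
  have := (HomologySequence.epi_homologyMap_mor₂_iff T hT i (i + 1) rfl).2 (h₂.eq_of_tgt _ _)
  exact isIso_of_mono_of_epi _

include hT hN hC in
theorem isIso_of_orth_le (a : ℤ) (h : ∀ n : ℤ, n ≤ a → ∀ φ : (KD fs)⟦-n⟧ ⟶ T.obj₂, φ = 0) (i : ℤ)
    (hi : i < a) : IsIso ((homologyFunctor (ModuleCat.{u₀} A) i).map T.mor₂) := by
  have hz : ∀ j, j ≤ a → IsZero ((homologyFunctor (ModuleCat.{u₀} A) j).obj T.obj₁) := fun j hj => by
    have := isZero_homology_of_hom fs T.obj₁ hC (-j) fun φ => mor₁_injective fs T hT hN _ φ (h j hj _)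
    rwa [neg_neg] at this
  exact isIso_homology_mor₂ T hT i (hz i (by omega)) (hz (i + 1) (by omega))

include hT hN hC in
theorem isIso_of_orth_ge (a : ℤ) (h : ∀ n : ℤ, a ≤ n → ∀ φ : (KD fs)⟦-n⟧ ⟶ T.obj₂, φ = 0) (i : ℤ)
    (hi : a ≤ i) : IsIso ((homologyFunctor (ModuleCat.{u₀} A) i).map T.mor₂) := by
  have hz : ∀ j, a ≤ j → IsZero ((homologyFunctor (ModuleCat.{u₀} A) j).obj T.obj₁) := fun j hj => by
    have := isZero_homology_of_hom fs T.obj₁ hC (-j) fun φ => mor₁_injective fs T hT hN _ φ (h j hj _)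
    rwa [neg_neg] at this
  exact isIso_homology_mor₂ T hT i (hz i hi) (hz (i + 1) (by omega))

include hT hN in
theorem orth_le_of_isIso (a : ℤ) (h : ∀ i, i < a → IsIso ((homologyFunctor (ModuleCat.{u₀} A) i).map T.mor₂))
    (n : ℤ) (hn : n < a) (φ : (KD fs)⟦-n⟧ ⟶ T.obj₂) : φ = 0 := by
  have hC' : T.obj₁.IsGE a := by
    rw [isGE_iff]
    intro i hi
    obtain ⟨j, rfl⟩ : ∃ j, i = j + 1 := ⟨i - 1, by omega⟩
    have := h j (by omega)
    have := h (j + 1) hi
    exact (HomologySequence.exact₁ T hT j (j + 1) rfl).isZero_of_both_zeros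
      ((HomologySequence.epi_homologyMap_mor₂_iff T hT j (j + 1) rfl).1 inferInstance)
      ((HomologySequence.mono_homologyMap_mor₂_iff T hT (j + 1)).1 inferInstance)
  obtain ⟨γ, hγ⟩ := Triangle.coyoneda_exact₂ T hT φ (hN _ _)
  have := isLE_koszul fs
  have : TStructure.t.IsLE ((KD fs)⟦-n⟧) n :=
    TStructure.t.isLE_shift (KD fs) 0 (-n) n (by omega)
  have : TStructure.t.IsGE T.obj₁ a := hC'
  rw [hγ, TStructure.t.zero γ n a hn, zero_comp]

include hN in
theorem orth_ge_of_isIso (a : ℤ) (h : ∀ i, a ≤ i → IsIso ((homologyFunctor (ModuleCat.{u₀} A) i).map T.mor₂))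
    (n : ℤ) (hn : a + (fs.length : ℤ) ≤ n) (φ : (KD fs)⟦-n⟧ ⟶ T.obj₂) : φ = 0 := by
  have := (isIso_truncGE_map_iff T.mor₂ a).2 h
  have hnat := (TStructure.t.truncGEπ a).naturality T.mor₂
  have h0 : φ ≫ (TStructure.t.truncGEπ a).app T.obj₂ = 0 := by
    refine (cancel_mono ((TStructure.t.truncGE a).map T.mor₂)).1 ?_
    rw [zero_comp]
    refine ((Category.assoc _ _ _).trans ((congrArg (φ ≫ ·) hnat.symm).trans (Category.assoc _ _ _).symm)).trans ?_
    exact (congrArg (· ≫ _) (hN _ (φ ≫ T.mor₂))).trans zero_comp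
  obtain ⟨γ, hγ⟩ := Triangle.coyoneda_exact₂ _ (TStructure.t.triangleLTGE_distinguished a T.obj₂) φ h0
  have : ((TStructure.t.truncLT a).obj T.obj₂).IsLE (a - 1) :=
    inferInstanceAs (TStructure.t.IsLE ((TStructure.t.truncLT a).obj T.obj₂) (a - 1))
  refine hγ.trans ?_
  exact (congrArg (· ≫ _) (hom_eq_zero_of_isLE fs ((TStructure.t.truncLT a).obj T.obj₂) (a - 1) (-n) (by omega) γ)).trans zero_comp

end Groth.Agent.CohDerLib.Kosz
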